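import Groth.Agent.GeomNear.Basic
import Groth.Agent.ConsPropLib.CoreProper
import Groth.Agent.LimSm.Flat
import Groth.Agent.H1Near.SteinConst
import Groth.Agent.S3415
import Groth.Agent.FlatMisc.GeomRedOpen

/-!
# Geometric connected components of the fibres of a proper flat morphism of finite presentation
-/

universe u
set_option autoImplicit false
set_option linter.style.haveILetI false
set_option backward.isDefEq.respectTransparency false
set_option backward.isDefEq.respectTransparency.types false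
open AlgebraicGeometry CategoryTheory CategoryTheory.Limits TopologicalSpace
  Groth.Agent.MorLib Groth.Agent.MorLib.Desc Groth.Agent.ConsPropLib

namespace Groth.Agent.GeomNear

/-- A proper flat morphism of finite presentation to an affine scheme comes from one over a noetherian
affine scheme. -/
theorem exists_proper_flat_model {X S : Scheme.{u}} [IsAffine S] (f : X ⟶ S)
    [LocallyOfFinitePresentation f] [IsProper f] [Flat f] :
    ∃ (S₁ X₁ : Scheme.{u}) (ρ : S ⟶ S₁) (f₁ : X₁ ⟶ S₁) (q : X ⟶ X₁),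
      IsNoetherian S₁ ∧ IsAffine S₁ ∧ IsProper f₁ ∧ Flat f₁ ∧ LocallyOfFinitePresentation f₁ ∧
      IsPullback q f f₁ ρ := by
  obtain ⟨I, _, _, D, c, hc, e, hA, hN⟩ := exists_noetherian_limit S
  haveI := hA
  haveI : ∀ {i j : I} (f : i ⟶ j), IsAffineHom (D.map f) := fun f => isAffineHom_of_isAffine _
  haveI : ∀ (i j : I) (f : i ⟶ j), IsAffineHom (D.map f) := fun i j f => isAffineHom_of_isAffine _
  obtain ⟨i, X₁, u₁, g₁, hX⟩ := hasModel hc (f ≫ e.inv)
  haveI := hX.lfp; haveI := hX.qc; haveI := hX.qs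
  haveI := hX.compactSpace; haveI := hX.quasiSeparatedSpace
  have hp : IsProper (pullback.snd u₁ (c.π.app i)) :=
    of_two @IsProper hX.sq (IsPullback.of_hasPullback _ _) inferInstance
  obtain ⟨j, φ, hj⟩ := core_isProper I D c hc (fun a b f => inferInstance) i (hA i) u₁
    inferInstance inferInstance hX.lfp hp
  have hY := hX.pushed φ
  haveI := hY.lfp; haveI := hY.qc; haveI := hY.qs
  haveI := hY.compactSpace; haveI := hY.quasiSeparatedSpace
  have hf : Flat (pullback.snd (pullback.snd u₁ (D.map φ)) (c.π.app j)) :=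
    of_two @Flat hY.sq (IsPullback.of_hasPullback _ _) inferInstance
  obtain ⟨k, ψ, hk⟩ := LimSm.core_flat I D c hc (fun a b f => inferInstance) j (hA j) (pullback.snd u₁ (D.map φ))
    inferInstance inferInstance hY.lfp hf
  haveI := hk
  haveI := hj
  exact ⟨D.obj k, _, e.inv ≫ c.π.app k, pullback.snd (pullback.snd u₁ (D.map φ)) (D.map ψ), hY.push ψ, hN k, hA k,
    inferInstance, hk, inferInstance,
    (hY.pushed ψ).sq.of_iso (Iso.refl _) (Iso.refl _) e (Iso.refl _) (by simp) (by simp) (by simp) (by simp)⟩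

theorem isUnivOpenAt_of_flat {X Y : Scheme.{u}} (f : X ⟶ Y) [Flat f] [LocallyOfFinitePresentation f] (x : X) :
    EGA43.IsUnivOpenAt f x := fun Y' g x' _ => by
  intro U hU
  exact (pullback.snd f g).isOpenMap.image_mem_nhds hU

variable {X Y : Scheme.{u}} (f : X ⟶ Y) [IsProper f] [Flat f] [LocallyOfFinitePresentation f]

theorem exists_nhds_le (y : Y) :
    ∃ V ∈ nhds y, ∀ z ∈ V, MoreMor.nGeomConnComp f y ≤ MoreMor.nGeomConnComp f z ∧
      (GeometricallyReduced (f.fiberToSpecResidueField y) → MoreMor.nGeomConnComp f z = MoreMor.nGeomConnComp f y) := by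
  obtain ⟨W, hW, hyW, -⟩ := exists_isAffineOpen_mem_and_subset (x := y) (U := (⊤ : Y.Opens)) trivial
  haveI : IsAffine (W : Scheme.{u}) := hW
  haveI : Flat (f ∣_ W) := MorphismProperty.of_isPullback (isPullback_morphismRestrict f W).flip ‹_›
  obtain ⟨S₁, X₁, ρ, f₁, q, _, _, _, _, _, sq⟩ := exists_proper_flat_model (f ∣_ W)
  have hn : ∀ z : (W : Scheme.{u}), MoreMor.nGeomConnComp f (W.ι z) = MoreMor.nGeomConnComp f₁ (ρ z) := fun z =>
    (nGeom_restrict f W z).2.symm.trans (Triage.GeomCount.nGeom_baseChange f₁ (f ∣_ W) q ρ sq z).2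
  let y₀ : (W : Scheme.{u}) := ⟨y, hyW⟩
  have hy : W.ι y₀ = y := rfl
  have hred : GeometricallyReduced (f.fiberToSpecResidueField y) →
      GeometricallyReduced (f₁.fiberToSpecResidueField (ρ y₀)) := fun h => by
    have h1 := (FlatMisc.GeomRedConstr.locus_preimage (isPullback_morphismRestrict f W).flip).ge
      (show y₀ ∈ W.ι ⁻¹' FlatMisc.GeomRedConstr.locus f from h)
    exact (FlatMisc.GeomRedConstr.locus_preimage sq).le h1
  obtain ⟨V, hV, hVle⟩ := Groth.Agent.S3415.result f₁ (ρ y₀) fun x _ => isUnivOpenAt_of_flat f₁ x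
  by_cases h : GeometricallyReduced (f.fiberToSpecResidueField y)
  · obtain ⟨V', hV', hVeq⟩ : ∃ V ∈ nhds (ρ y₀), ∀ z ∈ V, MoreMor.nGeomConnComp f₁ z = MoreMor.nGeomConnComp f₁ (ρ y₀) :=
      ⟨_, H1Near.nGeomConnComp_const_nhds f₁ (ρ y₀) (fun x _ => isUnivOpenAt_of_flat f₁ x) (hred h), fun z hz => hz⟩
    refine ⟨W.ι '' (ρ ⁻¹' V'), ?_, ?_⟩
    · rw [← hy]
      exact W.ι.isOpenEmbedding.isOpenMap.image_mem_nhds (ρ.continuous.continuousAt.preimage_mem_nhds hV')
    · rintro _ ⟨z, hz, rfl⟩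
      have e : MoreMor.nGeomConnComp f (W.ι z) = MoreMor.nGeomConnComp f y := by
        rw [hn, hVeq _ hz, ← hn]; rfl
      exact ⟨e.ge, fun _ => e⟩
  · refine ⟨W.ι '' (ρ ⁻¹' V), ?_, ?_⟩
    · rw [← hy]
      exact W.ι.isOpenEmbedding.isOpenMap.image_mem_nhds (ρ.continuous.continuousAt.preimage_mem_nhds hV)
    · rintro _ ⟨z, hz, rfl⟩
      refine ⟨?_, fun h' => absurd h' h⟩
      rw [hn, show MoreMor.nGeomConnComp f y = MoreMor.nGeomConnComp f₁ (ρ y₀) from hn y₀]
      exact hVle _ hz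

theorem lowerSemicontinuous_nGeomConnComp : LowerSemicontinuous (fun y : Y => MoreMor.nGeomConnComp f y) := by
  intro y n hn
  obtain ⟨V, hV, h⟩ := exists_nhds_le f y
  exact Filter.eventually_of_mem hV fun z hz => lt_of_lt_of_le hn (h z hz).1

theorem isLocallyConstant_nGeomConnComp [GeometricallyReduced f] :
    IsLocallyConstant (fun y : Y => MoreMor.nGeomConnComp f y) := by
  rw [IsLocallyConstant.iff_eventually_eq]
  intro y
  obtain ⟨V, hV, h⟩ := exists_nhds_le f y
  exact Filter.eventually_of_mem hV fun z hz => (h z hz).2 inferInstance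

theorem isOpen_geomReduced_and_eq (k : ℕ∞) :
    IsOpen {y : Y | GeometricallyReduced (f.fiberToSpecResidueField y) ∧ MoreMor.nGeomConnComp f y = k} := by
  rw [isOpen_iff_mem_nhds]
  rintro y ⟨hy, hk⟩
  obtain ⟨V, hV, h⟩ := exists_nhds_le f y
  filter_upwards [hV, (FlatMisc.GeomRedOpen.isOpen_locus f).mem_nhds (show y ∈ FlatMisc.GeomRedConstr.locus f from hy)]
    with z hz hz'
  exact ⟨hz', ((h z hz).2 hy).trans hk⟩

end Groth.Agent.GeomNear
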