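import Groth.Agent.RGLib.ApproxGeomCount
import Groth.Agent.H1Spread.Conn

/-!
# Geometrically irreducible and connected fibres near the generic point (EGA IV 9.7.7)
-/

universe u
set_option autoImplicit false
set_option backward.isDefEq.respectTransparency false
set_option backward.isDefEq.respectTransparency.types false
open AlgebraicGeometry CategoryTheory CategoryTheory.Limits TopologicalSpace

namespace Groth.Agent.GeomNear

variable {X Y : Scheme.{u}} (f : X ⟶ Y)

theorem nGeom_restrict (V : Y.Opens) (y : (V : Scheme.{u})) :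
    MoreMor.nGeomIrredComp (f ∣_ V) y = MoreMor.nGeomIrredComp f (V.ι y) ∧
      MoreMor.nGeomConnComp (f ∣_ V) y = MoreMor.nGeomConnComp f (V.ι y) :=
  Triage.GeomCount.nGeom_baseChange f (f ∣_ V) (f ⁻¹ᵁ V).ι V.ι (isPullback_morphismRestrict f V).flip y

theorem exists_open_geometricallyIrreducible [IrreducibleSpace Y] [LocallyOfFiniteType f] [QuasiCompact f]
    (h : GeometricallyIrreducible (f.fiberToSpecResidueField (genericPoint Y))) :
    ∃ V : Y.Opens, (V : Set Y).Nonempty ∧ GeometricallyIrreducible (f ∣_ V) := by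
  obtain ⟨W, hη, hW⟩ := H1Spread.exists_open_const_irred f
  refine ⟨W, ⟨_, hη⟩, (RGLib.ApproxCount.geometricallyIrreducible_iff _).2 fun y => ?_⟩
  rw [(nGeom_restrict f W y).1, hW (W.ι y) y.2]
  exact (RGLib.ApproxCount.encard_components_eq_one_iff _).2
    (h.geometrically_irreducibleSpace _ _ _ (IsPullback.of_hasPullback _ _))

theorem exists_open_geometricallyConnected [IrreducibleSpace Y] [LocallyOfFiniteType f] [QuasiCompact f]
    (h : GeometricallyConnected (f.fiberToSpecResidueField (genericPoint Y))) :
    ∃ V : Y.Opens, (V : Set Y).Nonempty ∧ GeometricallyConnected (f ∣_ V) := by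
  obtain ⟨W, hη, hW⟩ := H1Spread.exists_open_const f
  refine ⟨W, ⟨_, hη⟩, (RGLib.ApproxCount.geometricallyConnected_iff _).2 fun y => ?_⟩
  rw [(nGeom_restrict f W y).2, hW (W.ι y) y.2]
  exact (RGLib.ApproxCount.card_connected_eq_one_iff _).2
    (h.geometrically_connectedSpace _ _ _ (IsPullback.of_hasPullback _ _))

end Groth.Agent.GeomNear
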