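import Groth.Agent.GeomNear.Basic
import Groth.Agent.H23.FinCondSch
import Groth.Agent.S4630
import Groth.Agent.S4631
import Groth.Agent.FlatMisc.GeomRedConstr
import Mathlib

/-!
# Geometrically pointwise integral schemes: counting components (EGA IV 4.5.11), constructibility (9.7.7)
-/

universe u
set_option autoImplicit false
set_option linter.style.haveILetI false
set_option backward.isDefEq.respectTransparency false
set_option backward.isDefEq.respectTransparency.types false
open AlgebraicGeometry CategoryTheory CategoryTheory.Limits TopologicalSpace Topology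

namespace Groth.Agent.GeomNear

section top

variable {Z : Type u} [TopologicalSpace Z]

/-- The connected component of a component. -/
noncomputable def compMap : ↥(irreducibleComponents Z) → _root_.ConnectedComponents Z :=
  fun C => ConnectedComponents.mk C.2.1.nonempty.some

theorem compMap_eq (C : ↥(irreducibleComponents Z)) {z : Z} (hz : z ∈ (C : Set Z)) :
    compMap C = ConnectedComponents.mk z :=
  ConnectedComponents.coe_eq_coe'.2 (C.2.1.isConnected.isPreconnected.subset_connectedComponent hz C.2.1.nonempty.some_mem)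

theorem compMap_surjective : Function.Surjective (compMap (Z := Z)) := fun c => by
  obtain ⟨z, rfl⟩ := ConnectedComponents.surjective_coe c
  exact ⟨⟨_, irreducibleComponent_mem_irreducibleComponents z⟩, compMap_eq _ mem_irreducibleComponent⟩

theorem natCard_eq_iff_pairwiseDisjoint [NoetherianSpace Z] :
    Nat.card ↥(irreducibleComponents Z) = Nat.card (_root_.ConnectedComponents Z) ↔
      (irreducibleComponents Z).PairwiseDisjoint id := by
  haveI : Finite ↥(irreducibleComponents Z) := NoetherianSpace.finite_irreducibleComponents.to_subtype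
  constructor
  · intro h C hC C' hC' hne
    refine Set.disjoint_left.2 fun z hz hz' => hne ?_
    have hbij := compMap_surjective.bijective_of_nat_card_le h.le
    exact congrArg Subtype.val (hbij.injective ((compMap_eq ⟨C, hC⟩ hz).trans (compMap_eq ⟨C', hC'⟩ hz').symm))
  · intro hd
    refine Nat.card_congr (Equiv.ofBijective compMap ⟨fun C C' h => ?_, compMap_surjective⟩)
    -- a component is clopen
    have hcl : IsClopen (C : Set Z) := by
      refine ⟨isClosed_of_mem_irreducibleComponents _ C.2, ?_⟩
      have : (C : Set Z) = (⋃ D ∈ irreducibleComponents Z \ {(C : Set Z)}, D)ᶜ := by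
        refine subset_antisymm (fun z hz => ?_) fun z hz => ?_
        · simp only [Set.mem_compl_iff, Set.mem_iUnion, not_exists]
          rintro D ⟨hD, hDC⟩ hzD
          exact Set.disjoint_left.1 (hd hD C.2 hDC) hzD hz
        · by_contra hne
          refine hz (Set.mem_biUnion (x := irreducibleComponent z)
            ⟨irreducibleComponent_mem_irreducibleComponents z, fun he => hne ?_⟩ mem_irreducibleComponent)
          rw [← Set.mem_singleton_iff.1 he]
          exact mem_irreducibleComponent
      rw [this, isOpen_compl_iff]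
      exact (NoetherianSpace.finite_irreducibleComponents.subset Set.sdiff_subset).isClosed_biUnion
        fun D hD => isClosed_of_mem_irreducibleComponents _ hD.1
    obtain ⟨z, hz⟩ := C.2.1.nonempty
    obtain ⟨z', hz'⟩ := C'.2.1.nonempty
    rw [compMap_eq C hz, compMap_eq C' hz'] at h
    have hz'C : z' ∈ (C : Set Z) :=
      hcl.connectedComponent_subset hz (ConnectedComponents.coe_eq_coe'.1 h.symm)
    by_contra hne
    exact Set.disjoint_left.1 (hd C.2 C'.2 fun e => hne (Subtype.ext e)) hz'C hz'

end top

theorem forall_isGeomPtIntegralAt_iff {k Ω : Type u} [Field k] [Field Ω] [Algebra k Ω] [IsAlgClosed Ω]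
    {X : Scheme.{u}} (f : X ⟶ Spec (CommRingCat.of k)) [LocallyOfFiniteType f] [QuasiCompact f] :
    (∀ x : X, FBase.IsGeomPtIntegralAt f x) ↔
      (GeometricallyReduced f ∧
        Nat.card ↥(irreducibleComponents ↥(FBase.bc f Ω)) = Nat.card (_root_.ConnectedComponents ↥(FBase.bc f Ω))) := by
  haveI : LocallyOfFiniteType (FBase.bcStr f Ω) := MorphismProperty.pullback_snd _ _ ‹_›
  haveI : QuasiCompact (FBase.bcStr f Ω) := MorphismProperty.pullback_snd _ _ ‹_›
  haveI : IsLocallyNoetherian (FBase.bc f Ω) := LocallyOfFiniteType.isLocallyNoetherian (FBase.bcStr f Ω)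
  haveI : CompactSpace (FBase.bc f Ω) := QuasiCompact.compactSpace_of_compactSpace (FBase.bcStr f Ω)
  haveI : IsNoetherian (FBase.bc f Ω) := {}
  rw [natCard_eq_iff_pairwiseDisjoint, H23.FinCondSch.pairwiseDisjoint_iff]
  constructor
  · intro h
    refine ⟨⟨fun K _ τ Z fst snd sq => ?_⟩, fun y => ?_⟩
    · obtain ⟨φ, rfl⟩ := Spec.map_surjective (R := CommRingCat.of k) (S := CommRingCat.of K) τ
      letI : Algebra k K := φ.hom.toAlgebra
      haveI : ∀ z : ↥(FBase.bc f K), _root_.IsReduced ((FBase.bc f K).presheaf.stalk z) := fun z => by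
        haveI := h _ K z rfl
        infer_instance
      haveI : AlgebraicGeometry.IsReduced (FBase.bc f K) := isReduced_of_isReduced_stalk _
      haveI : AlgebraicGeometry.IsReduced (pullback f (Spec.map φ)) := ‹AlgebraicGeometry.IsReduced (FBase.bc f K)›
      exact isReduced_of_isOpenImmersion sq.isoPullback.hom
    · haveI : IsDomain ((FBase.bc f Ω).presheaf.stalk y) :=
        (S4631.result (FBase.bcStr f Ω) y).1 ((S4630.result f y).1 (h _))
      rw [nilradical_eq_zero]
      exact Ideal.isPrime_bot
  · rintro ⟨hred, hp⟩ x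
    obtain ⟨y, rfl⟩ := (FBaseLib.surjective_bcπ f Ω).surj x
    refine (S4630.result f y).2 ((S4631.result (FBase.bcStr f Ω) y).2 ?_)
    haveI : AlgebraicGeometry.IsReduced (FBase.bc f Ω) :=
      hred.geometrically_isReduced _ _ _ (IsPullback.of_hasPullback f (Spec.map (CommRingCat.ofHom (algebraMap k Ω))))
    have h := hp y
    rw [nilradical_eq_zero] at h
    exact IsDomain.of_bot_isPrime _

/-- Geometrically reduced fibre whose geometric components are the geometric connected components. -/
def intLocus {X S : Scheme.{u}} (f : X ⟶ S) : Set S :=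
  {s | s ∈ FlatMisc.GeomRedConstr.locus f ∧ MoreMor.nGeomIrredComp f s = MoreMor.nGeomConnComp f s}

theorem intLocus_preimage {X S X' S' : Scheme.{u}} {f : X ⟶ S} {g : S' ⟶ S} {f' : X' ⟶ S'} {g' : X' ⟶ X}
    (hc : IsPullback g' f' f g) : intLocus f' = g ⁻¹' intLocus f := Set.ext fun s => by
  show _ ∧ _ ↔ _ ∧ _
  rw [FlatMisc.GeomRedConstr.locus_preimage hc, (Triage.GeomCount.nGeom_baseChange f f' g' g hc s).1,
    (Triage.GeomCount.nGeom_baseChange f f' g' g hc s).2]
  rfl

theorem isConstructible_intLocus {X S : Scheme.{u}} [IsNoetherian S] (f : X ⟶ S) [LocallyOfFiniteType f]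
    [QuasiCompact f] : IsConstructible (intLocus f) := by
  refine (FlatMisc.GeomRedConstr.isConstructible_locus f).inter (ConsPropLib.isConstructible_of_dichotomy
    {s : S | MoreMor.nGeomIrredComp f s = MoreMor.nGeomConnComp f s} fun T j _ _ _ => ?_)
  obtain ⟨W₁, hη₁, h₁⟩ := H1Spread.exists_open_const_irred (pullback.snd f j)
  obtain ⟨W₂, hη₂, h₂⟩ := H1Spread.exists_open_const (pullback.snd f j)
  have hn := fun t => Triage.GeomCount.nGeom_baseChange f _ (pullback.fst f j) j (IsPullback.of_hasPullback f j) t
  by_cases h : MoreMor.nGeomIrredComp f (j (genericPoint T)) = MoreMor.nGeomConnComp f (j (genericPoint T))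
  · refine .inl ⟨genericPoint T, interior_maximal ?_ (W₁.2.inter W₂.2) ⟨hη₁, hη₂⟩⟩
    intro t ht
    show MoreMor.nGeomIrredComp f (j t) = MoreMor.nGeomConnComp f (j t)
    rw [← (hn t).1, ← (hn t).2, h₁ t ht.1, h₂ t ht.2, (hn _).1, (hn _).2, h]
  · refine .inr ⟨genericPoint T, interior_maximal ?_ (W₁.2.inter W₂.2) ⟨hη₁, hη₂⟩⟩
    intro t ht (he : MoreMor.nGeomIrredComp f (j t) = MoreMor.nGeomConnComp f (j t))
    refine h ?_
    rw [← (hn _).1, ← (hn _).2, ← h₁ t ht.1, ← h₂ t ht.2, (hn t).1, (hn t).2, he]

theorem isLocallyConstructible_intLocus {X S : Scheme.{u}} (f : X ⟶ S) [LocallyOfFinitePresentation f]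
    [QuasiCompact f] [QuasiSeparated f] : IsLocallyConstructible (intLocus f) :=
  ConsPropLib.lc_of_affine fun V hV => by
    haveI : IsAffine (V : Scheme.{u}) := hV
    obtain ⟨S₀, X₀, _, π, u₀, -, qX, -, hS₀, hA, hl, hqc, -, -, sq, -⟩ :=
      ConsPropLib.exists_model_pair (f ∣_ V) (f ∣_ V)
    haveI := hS₀; haveI := hA; haveI := hl; haveI := hqc
    rw [← intLocus_preimage (isPullback_morphismRestrict f V).flip, intLocus_preimage sq]
    haveI : IsAffineHom π := isAffineHom_of_isAffine _
    exact MorLib.LimCons.isConstructible_preimage π (isConstructible_intLocus u₀)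

theorem natCard_eq_iff_nGeom_eq {k Ω : Type u} [Field k] [Field Ω] [Algebra k Ω] [IsAlgClosed Ω] {X : Scheme.{u}}
    {S : Scheme.{u}} (g : Spec (CommRingCat.of k) ⟶ S) (f : X ⟶ S) [LocallyOfFiniteType f] [QuasiCompact f] :
    (Nat.card ↥(irreducibleComponents ↥(FBase.bc (pullback.snd f g) Ω)) =
        Nat.card (_root_.ConnectedComponents ↥(FBase.bc (pullback.snd f g) Ω))) ↔
      MoreMor.nGeomIrredComp f (g (IsLocalRing.closedPoint k)) = MoreMor.nGeomConnComp f (g (IsLocalRing.closedPoint k)) := by
  let τ : Spec (CommRingCat.of Ω) ⟶ S := Spec.map (CommRingCat.ofHom (algebraMap k Ω)) ≫ g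
  have hτ : τ (H1Near.spt Ω) = g (IsLocalRing.closedPoint k) := by
    rw [Scheme.Hom.comp_apply, show Spec.map (CommRingCat.ofHom (algebraMap k Ω)) (H1Near.spt Ω) =
      IsLocalRing.closedPoint k from Subsingleton.elim (α := PrimeSpectrum k) _ _]
  have e : FBase.bc (pullback.snd f g) Ω ≅ pullback f τ :=
    pullbackLeftPullbackSndIso f g (Spec.map (CommRingCat.ofHom (algebraMap k Ω)))
  haveI : LocallyOfFiniteType (pullback.snd f τ) := MorphismProperty.pullback_snd _ _ ‹_›
  haveI : QuasiCompact (pullback.snd f τ) := MorphismProperty.pullback_snd _ _ ‹_›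
  haveI : IsLocallyNoetherian (pullback f τ) := LocallyOfFiniteType.isLocallyNoetherian (pullback.snd f τ)
  haveI : CompactSpace (pullback f τ : Scheme.{u}) := QuasiCompact.compactSpace_of_compactSpace (pullback.snd f τ)
  haveI : IsNoetherian (pullback f τ) := {}
  haveI : Finite ↥(irreducibleComponents ↥(pullback f τ)) := NoetherianSpace.finite_irreducibleComponents.to_subtype
  haveI : Finite (_root_.ConnectedComponents ↥(pullback f τ)) := Finite.of_surjective _ compMap_surjective
  rw [← hτ, H1Spread.nGeomIrredComp_eq_card f τ, H1Spread.nGeomConnComp_eq_card f τ]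
  have h1 : Nat.card ↥(irreducibleComponents ↥(FBase.bc (pullback.snd f g) Ω)) =
      Nat.card ↥(irreducibleComponents ↥(pullback f τ)) := by
    rw [Nat.card_coe_set_eq, Nat.card_coe_set_eq, Set.ncard_def, Set.ncard_def,
      H1Spread.encard_irreducibleComponents_iso e]
  have h2 : Nat.card (_root_.ConnectedComponents ↥(FBase.bc (pullback.snd f g) Ω)) =
      Nat.card (_root_.ConnectedComponents ↥(pullback f τ)) :=
    congrArg ENat.toNat (H1Spread.card_connectedComponents_iso e)
  rw [h1, h2, ← ENat.card_coe_set_eq, ENat.card_eq_coe_natCard, ENat.card_eq_coe_natCard, Nat.cast_inj]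

theorem setOf_fibre_ptIntegral_eq {X S : Scheme.{u}} (f : X ⟶ S) [LocallyOfFiniteType f] [QuasiCompact f] :
    {s : S | ∀ x : ↥(f.fiber s), FBase.IsGeomPtIntegralAt (f.fiberToSpecResidueField s) x} = intLocus f :=
  Set.ext fun s => by
    refine (forall_isGeomPtIntegralAt_iff (k := S.residueField s) (Ω := AlgebraicClosure (S.residueField s))
      (f.fiberToSpecResidueField s)).trans (and_congr Iff.rfl ?_)
    refine (natCard_eq_iff_nGeom_eq (k := S.residueField s) (S.fromSpecResidueField s) f).trans ?_
    exact iff_of_eq (congrArg (fun t : S => MoreMor.nGeomIrredComp f t = MoreMor.nGeomConnComp f t)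
      (S.fromSpecResidueField_apply s _))

end Groth.Agent.GeomNear
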